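import Groth.Agent.TPt86.Curve

/-!
# T-points on the tangent plane of a point which is not a T-point
-/

set_option autoImplicit false
set_option maxHeartbeats 1000000

noncomputable section

namespace Groth.Agent.TPt86

open MvPolynomial

variable {K : Type*} [Field K] {S : Type*} [CommRing S] [Algebra K S]

theorem exists_coeffs {F : MvPolynomial (Fin 4) K} (hF : F.IsHomogeneous 3) :
    ∃ s : Multiset (K × Fin 4 × Fin 4 × Fin 4),
      F = (s.map fun t => C t.1 * X t.2.1 * X t.2.2.1 * X t.2.2.2).sum := by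
  classical
  have key : ∀ d ∈ F.support, ∃ i j l, monomial d (coeff d F) = C (coeff d F) * X i * X j * X l := by
    intro d hd
    have h3 : d.toMultiset.card = 3 := by
      rw [Finsupp.card_toMultiset]
      have := hF (mem_support_iff.mp hd)
      simpa [Finsupp.weight_apply, Finsupp.sum] using this
    obtain ⟨i, j, l, hijl⟩ := Multiset.card_eq_three.mp h3
    have hd' : d = Finsupp.single i 1 + Finsupp.single j 1 + Finsupp.single l 1 := by
      apply Finsupp.orderIsoMultiset.injective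
      simp only [Finsupp.coe_orderIsoMultiset, hijl, map_add, Finsupp.toMultiset_single, one_nsmul]
      rfl
    refine ⟨i, j, l, ?_⟩
    generalize coeff d F = c
    rw [hd', X, X, X, C_mul_monomial, monomial_mul, monomial_mul]
    simp
  choose! i j l h using key
  refine ⟨F.support.val.map fun d => (coeff d F, i d, j d, l d), ?_⟩
  rw [Multiset.map_map]
  conv_lhs => rw [F.as_sum, Finset.sum_congr rfl h]
  rfl

/-- The value of `F`. -/
def Fv (F : MvPolynomial (Fin 4) K) (x : Fin 4 → S) : S := aeval x F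

/-- The gradient of `F`. -/
def gv (F : MvPolynomial (Fin 4) K) (x : Fin 4 → S) (i : Fin 4) : S := aeval x (pderiv i F)

/-- The directional derivative. -/
def Tv (F : MvPolynomial (Fin 4) K) (x v : Fin 4 → S) : S := ∑ i, gv F x i * v i

theorem gv_eq_Tv (F : MvPolynomial (Fin 4) K) (x : Fin 4 → S) (i : Fin 4) : gv F x i = Tv F x (Pi.single i 1) := by
  simp [Tv, Pi.single_apply]

theorem expand_data {F : MvPolynomial (Fin 4) K} (hF : F.IsHomogeneous 3) (x y z : Fin 4 → S) (c : S) :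
    Fv F (x + y) = Fv F x + Tv F x y + Tv F y x + Fv F y ∧
      Tv F (x + y) z + Tv F (x - y) z = 2 * Tv F x z + 2 * Tv F y z ∧
      Fv F (c • x) = c ^ 3 * Fv F x ∧ Tv F (c • x) z = c ^ 2 * Tv F x z ∧ Tv F x x = 3 * Fv F x ∧
      ∀ e : S, Tv F (c • x + e • y) z =
        c ^ 2 * Tv F x z + c * e * (Tv F (x + y) z - Tv F x z - Tv F y z) + e ^ 2 * Tv F y z := by
  obtain ⟨s, rfl⟩ := exists_coeffs hF
  clear hF
  induction s using Multiset.induction with
  | empty => simp [Fv, Tv, gv]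
  | cons t s ih =>
    obtain ⟨a, i, j, l⟩ := t
    simp only [Multiset.map_cons, Multiset.sum_cons]
    generalize (Multiset.map (fun t : K × Fin 4 × Fin 4 × Fin 4 => C t.1 * X t.2.1 * X t.2.2.1 * X t.2.2.2) s).sum =
      G at ih ⊢
    have hT : ∀ p q : Fin 4 → S, Tv (C a * X i * X j * X l + G) p q =
        algebraMap K S a * (q i * p j * p l + p i * q j * p l + p i * p j * q l) + Tv G p q := fun p q => by
      have hsum : ∀ (m : Fin 4) (f : S), ∑ r, (if m = r then f else 0) * q r = f * q m := fun m f => by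
        simp [Finset.sum_ite_eq]
      simp only [Tv, gv, map_add, add_mul, Finset.sum_add_distrib, Derivation.leibniz, pderiv_C, pderiv_X,
        smul_eq_mul, map_mul, aeval_X, aeval_C, Pi.single_apply, apply_ite (aeval p), map_one, map_zero,
        mul_zero, add_zero, mul_ite, mul_one, mul_add, hsum]
      ring
    have hV : ∀ p : Fin 4 → S, Fv (C a * X i * X j * X l + G) p = algebraMap K S a * p i * p j * p l + Fv G p :=
      fun p => by simp [Fv]
    simp only [hT, hV, Pi.add_apply, Pi.sub_apply, Pi.smul_apply, smul_eq_mul]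
    obtain ⟨h1, h2, h3, h4, h5, h6⟩ := ih
    refine ⟨by linear_combination h1, by linear_combination h2, by linear_combination h3, by linear_combination h4,
      by linear_combination h5, fun e => by linear_combination h6 e⟩

theorem Tv_add_right (F : MvPolynomial (Fin 4) K) (x v w : Fin 4 → S) : Tv F x (v + w) = Tv F x v + Tv F x w := by
  simp [Tv, mul_add, Finset.sum_add_distrib]

theorem Tv_smul_right (F : MvPolynomial (Fin 4) K) (x v : Fin 4 → S) (c : S) : Tv F x (c • v) = c * Tv F x v := by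
  simp only [Tv, Pi.smul_apply, smul_eq_mul, Finset.mul_sum]
  exact Finset.sum_congr rfl fun i _ => by ring

/-- The projected frame. -/
def Wv (F : MvPolynomial (Fin 4) K) (m : Fin 4) (E : Fin 3 → Fin 4 → S) (b : Fin 4 → S) (r : Fin 3) : Fin 4 → S :=
  gv F b m • E r - Tv F b (E r) • Pi.single m 1

/-- The restricted cubic. -/
def Gv (F : MvPolynomial (Fin 4) K) (m : Fin 4) (E : Fin 3 → Fin 4 → S) (b : Fin 4 → S) (u : Fin 3 → S) : S :=
  Fv F (∑ r, u r • Wv F m E b r)

/-- The obstruction. -/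
def Φv (F : MvPolynomial (Fin 4) K) (m : Fin 4) (E : Fin 3 → Fin 4 → S) (u₀ v₀ : Fin 3 → S) (b : Fin 4 → S) : S :=
  gv F b m * (Hs (Gv F m E b) u₀ * Gv F m E b v₀ - Hs (Gv F m E b) v₀ * Gv F m E b u₀)

theorem map_Fv {S' : Type*} [CommRing S'] [Algebra K S'] (φ : S →ₐ[K] S') (p : MvPolynomial (Fin 4) K)
    (x : Fin 4 → S) : φ (Fv p x) = Fv p (φ ∘ x) := by
  rw [Fv, Fv, comp_aeval_apply]; rfl

theorem map_gv {S' : Type*} [CommRing S'] [Algebra K S'] (φ : S →ₐ[K] S') (F : MvPolynomial (Fin 4) K)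
    (x : Fin 4 → S) (i : Fin 4) : φ (gv F x i) = gv F (φ ∘ x) i :=
  map_Fv φ (pderiv i F) x

theorem map_Tv {S' : Type*} [CommRing S'] [Algebra K S'] (φ : S →ₐ[K] S') (F : MvPolynomial (Fin 4) K)
    (x v : Fin 4 → S) : φ (Tv F x v) = Tv F (φ ∘ x) (φ ∘ v) := by
  simp only [Tv, map_sum, map_mul, map_gv, Function.comp_apply]

theorem map_Gv {S' : Type*} [CommRing S'] [Algebra K S'] (φ : S →ₐ[K] S') (F : MvPolynomial (Fin 4) K) (m : Fin 4)
    (E : Fin 3 → Fin 4 → S) (b : Fin 4 → S) (u : Fin 3 → S) :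
    φ (Gv F m E b u) = Gv F m (fun r => φ ∘ E r) (φ ∘ b) (φ ∘ u) := by
  rw [Gv, Gv, map_Fv]
  congr 1
  funext i
  simp only [Wv, Function.comp_apply, Finset.sum_apply, Pi.smul_apply, Pi.sub_apply, smul_eq_mul, map_sum, map_mul,
    map_sub, map_gv, map_Tv, Pi.single_apply, apply_ite φ, map_one, map_zero]

theorem map_Φv {S' : Type*} [CommRing S'] [Algebra K S'] (φ : S →ₐ[K] S') (F : MvPolynomial (Fin 4) K) (m : Fin 4)
    (E : Fin 3 → Fin 4 → S) (u₀ v₀ : Fin 3 → S) (b : Fin 4 → S) :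
    φ (Φv F m E u₀ v₀ b) = Φv F m (fun r => φ ∘ E r) (φ ∘ u₀) (φ ∘ v₀) (φ ∘ b) := by
  have h := fun u => map_Hs φ.toRingHom (Gv F m E b) (Gv F m (fun r => φ ∘ E r) (φ ∘ b)) (map_Gv φ F m E b) u
  simp only [AlgHom.toRingHom_eq_coe, RingHom.coe_coe] at h
  simp only [Φv, map_mul, map_sub, map_gv, map_Gv, h]

theorem Φv_smul {F : MvPolynomial (Fin 4) K} (hF : F.IsHomogeneous 3) (m : Fin 4)
    (E : Fin 3 → Fin 4 → S) (u₀ v₀ : Fin 3 → S) (b : Fin 4 → S) (c : S) :
    Φv F m E u₀ v₀ (c • b) = c ^ 26 * Φv F m E u₀ v₀ b := by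
  have hg : ∀ z, Tv F (c • b) z = c ^ 2 * Tv F b z := fun z => (expand_data hF b b z c).2.2.2.1
  have hG : Gv F m E (c • b) = fun u => (c ^ 2) ^ 3 * Gv F m E b u := by
    funext u
    rw [Gv, Gv, ← (expand_data hF (∑ r, u r • Wv F m E b r) b b (c ^ 2)).2.2.1, Finset.smul_sum]
    congr 1
    refine Finset.sum_congr rfl fun r _ => funext fun i => ?_
    simp only [Wv, gv_eq_Tv, hg, Pi.smul_apply, Pi.sub_apply, smul_eq_mul]
    ring
  simp only [Φv, gv_eq_Tv, hg, hG, Hs_smul]
  ring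

/-- A linear form as a function. -/
theorem exists_coeff_linear {L : MvPolynomial (Fin 4) K} (hL : L.IsHomogeneous 1) :
    ∃ c : Fin 4 → K, ∀ x : Fin 4 → S, aeval x L = ∑ i, algebraMap K S (c i) * x i := by
  classical
  refine ⟨fun i => coeff (Finsupp.single i 1) L, fun x => ?_⟩
  have : L = ∑ i, C (coeff (Finsupp.single i 1) L) * X i := by
    ext d
    simp only [coeff_sum, coeff_C_mul, coeff_X', mul_ite, mul_one, mul_zero]
    by_cases hd : ∃ i, Finsupp.single i 1 = d
    · obtain ⟨i, rfl⟩ := hd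
      rw [Finset.sum_eq_single i] <;> simp +contextual [Finsupp.single_left_inj]
    · rw [Finset.sum_eq_zero fun i _ => if_neg fun h => hd ⟨i, h⟩]
      by_contra hne
      have h1 := hL hne
      obtain ⟨i, rfl⟩ := Finsupp.sum_eq_one_iff d |>.mp (by simpa [Finsupp.weight_apply] using h1)
      exact hd ⟨i, rfl⟩
  conv_lhs => rw [this]
  simp [map_sum]

theorem mem_span_of_vanish {K : Type*} [Field K] [Infinite K] {g : Fin 4 → K} {m : Fin 4} (hm : g m ≠ 0)
    (p : MvPolynomial (Fin 4) K) (hp : ∀ x : Fin 4 → K, ∑ i, g i * x i = 0 → eval x p = 0) :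
    p ∈ Ideal.span {∑ i, C (g i) * X i} := by
  classical
  let l : MvPolynomial (Fin 4) K := ∑ i, C (g i) * X i
  let σ : MvPolynomial (Fin 4) K →ₐ[K] MvPolynomial (Fin 4) K :=
    aeval fun i => X i - (if i = m then C (g m)⁻¹ * l else 0)
  have h1 : σ p = 0 := by
    refine funext fun x => ?_
    rw [map_zero]
    have : ∀ q, eval x (σ q) = eval (fun i => eval x (X i - (if i = m then C (g m)⁻¹ * l else 0))) q := fun q => by
      induction q using MvPolynomial.induction_on <;> simp_all [σ]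
    rw [this]
    refine hp _ ?_
    simp only [map_sub, eval_X, apply_ite (eval x), map_mul, eval_C, map_zero, mul_sub, Finset.sum_sub_distrib,
      mul_ite, mul_zero, Finset.sum_ite_eq', Finset.mem_univ, if_true, l, map_sum]
    field_simp
    simp
  have h2 : (Ideal.Quotient.mkₐ K (Ideal.span {l})).comp σ = Ideal.Quotient.mkₐ K (Ideal.span {l}) := by
    refine algHom_ext fun i => ?_
    simp only [AlgHom.comp_apply, σ, aeval_X, Ideal.Quotient.mkₐ_eq_mk, Ideal.Quotient.mk_eq_mk_iff_sub_mem]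
    split
    · rw [sub_sub_cancel_left]
      exact neg_mem (Ideal.mul_mem_left _ _ (Ideal.mem_span_singleton_self l))
    · simp
  refine (Ideal.Quotient.eq_zero_iff_mem).mp ?_
  have := (AlgHom.congr_fun h2 p).symm
  rwa [AlgHom.comp_apply, h1, map_zero] at this

variable [CharZero K] [IsAlgClosed K]

/-- The predicate of being a T-point, apart from the conditions on the point. -/
def Split3 (F : MvPolynomial (Fin 4) K) (b : Fin 4 → K) : Prop :=
  ∃ L₁ L₂ L₃ : MvPolynomial (Fin 4) K, L₁.IsHomogeneous 1 ∧ L₂.IsHomogeneous 1 ∧ L₃.IsHomogeneous 1 ∧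
    F - L₁ * L₂ * L₃ ∈ Ideal.span {∑ i : Fin 4, C (eval b (pderiv i F)) * X i}

omit [IsAlgClosed K] [CharZero K] in
theorem Φv_eq_zero {F : MvPolynomial (Fin 4) K} {b : Fin 4 → K} (h : Split3 F b) (m : Fin 4)
    (E : Fin 3 → Fin 4 → K) (u₀ v₀ : Fin 3 → K) : Φv F m E u₀ v₀ b = 0 := by
  obtain ⟨L₁, L₂, L₃, h1, h2, h3, hmem⟩ := h
  obtain ⟨q, hq⟩ := Ideal.mem_span_singleton'.mp hmem
  obtain ⟨c₁, hc₁⟩ := exists_coeff_linear (S := K) h1
  obtain ⟨c₂, hc₂⟩ := exists_coeff_linear (S := K) h2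
  obtain ⟨c₃, hc₃⟩ := exists_coeff_linear (S := K) h3
  let rest : (Fin 4 → K) → Fin 3 → K := fun c r => ∑ i, c i * Wv F m E b r i
  have hlin : ∀ (c : Fin 4 → K) (u : Fin 3 → K), ∑ i, c i * (∑ r, u r • Wv F m E b r) i = lin (rest c) u := by
    intro c u
    simp only [rest, lin, Fin.sum_univ_three, Fin.sum_univ_four, Pi.add_apply, Pi.smul_apply, smul_eq_mul]
    ring
  have hG : Gv F m E b = fun u => lin (rest c₁) u * lin (rest c₂) u * lin (rest c₃) u := by
    funext u
    have hz : Fv (∑ i : Fin 4, C (eval b (pderiv i F)) * X i) (∑ r, u r • Wv F m E b r) = 0 := by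
      simp only [Fv, map_sum, map_mul, aeval_C, aeval_X, Algebra.algebraMap_self, RingHom.id_apply]
      simp only [Fin.sum_univ_three, Fin.sum_univ_four, Pi.add_apply, Pi.smul_apply, smul_eq_mul, Wv, Tv, gv,
        Pi.sub_apply, Pi.single_apply]

      fin_cases m <;> simp <;> ring
    have : aeval (∑ r, u r • Wv F m E b r) (F - L₁ * L₂ * L₃) = (0 : K) := by
      rw [← hq, map_mul, show aeval (∑ r, u r • Wv F m E b r) (∑ i : Fin 4, C (eval b (pderiv i F)) * X i) = (0 : K)
        from hz, mul_zero]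
    rw [map_sub, sub_eq_zero, map_mul, map_mul, hc₁, hc₂, hc₃] at this
    simp only [Algebra.algebraMap_self, RingHom.id_apply, hlin] at this
    exact this
  rw [Φv, hG, Hs_prod, Hs_prod]
  ring

/-- T-points on the tangent plane of a point which is not one are finite. -/
theorem finite_tpoints (F : MvPolynomial (Fin 4) K) (hF : F.IsHomogeneous 3) (tp : (Fin 4 → K) → Prop)
    (htp : ∀ b, tp b → eval b F = 0 ∧ Split3 F b) (a : Fin 4 → K) (ha0 : a ≠ 0) (haF : eval a F = 0)
    (m : Fin 4) (hm : eval a (pderiv m F) ≠ 0) (ha : ¬ Split3 F a) (H : Submodule K (Fin 4 → K))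
    (hH : ∀ x, x ∈ H ↔ Tv F a x = 0) :
    Set.Finite {U : Submodule K (Fin 4 → K) | Module.finrank K ↥U = 1 ∧ U ≤ H ∧ ∀ b ∈ U, b ≠ 0 → tp b} := by
  classical
  have hgm : gv F a m ≠ 0 := hm
  let φ : Module.Dual K (Fin 4 → K) :=
    { toFun := Tv F a, map_add' := Tv_add_right F a, map_smul' := fun c v => Tv_smul_right F a v c }
  have hHker : H = LinearMap.ker φ := Submodule.ext hH
  have hφ : φ ≠ 0 := fun h => hgm (by rw [gv_eq_Tv]; exact LinearMap.congr_fun h _)
  have hrank : Module.finrank K ↥H = 3 := by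
    have := Module.Dual.finrank_ker_add_one_of_ne_zero hφ
    rw [← hHker, Module.finrank_fin_fun] at this
    omega
  have haa : Tv F a a = 0 := by rw [(expand_data hF a a a 1).2.2.2.2.1, show Fv F a = 0 from haF, mul_zero]
  -- a frame of `H` starting with `a`
  obtain ⟨E₀, hinj, hrange, hE0a⟩ : ∃ E : (Fin 3 → K) →ₗ[K] (Fin 4 → K), Function.Injective E ∧
      LinearMap.range E = H ∧ E ![1, 0, 0] = a := by
    let ψ : (Fin 3 → K) ≃ₗ[K] ↥H := LinearEquiv.ofFinrankEq _ _ (by rw [hrank, Module.finrank_fin_fun])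
    let a' := ψ.symm ⟨a, (hH a).mpr haa⟩
    obtain ⟨j, hj⟩ : ∃ j, a' j ≠ 0 := by
      by_contra! h
      exact ha0 (congrArg Subtype.val (ψ.symm.map_eq_zero_iff.mp (show a' = 0 from funext h)))
    let σ : (Fin 3 → K) ≃ₗ[K] (Fin 3 → K) := LinearEquiv.funCongrLeft K K (Equiv.swap 0 j)
    let a'' := σ a'
    have ha'' : a'' 0 ≠ 0 := by simpa [a'', σ, LinearEquiv.funCongrLeft_apply, LinearMap.funLeft] using hj
    let N : (Fin 3 → K) →ₗ[K] (Fin 3 → K) :=
      { toFun := fun u => ![u 0 * a'' 0, u 0 * a'' 1 + u 1, u 0 * a'' 2 + u 2]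
        map_add' := fun u v => by funext i; fin_cases i <;> simp <;> ring
        map_smul' := fun c u => by funext i; fin_cases i <;> simp <;> ring }
    have hN : Function.Injective N := by
      rw [← LinearMap.ker_eq_bot, LinearMap.ker_eq_bot']
      intro u hu
      have e0 := congrFun hu 0
      have e1 := congrFun hu 1
      have e2 := congrFun hu 2
      simp [N, ha''] at e0 e1 e2
      funext i; fin_cases i <;> simp_all
    refine ⟨H.subtype ∘ₗ ψ.toLinearMap ∘ₗ σ.symm.toLinearMap ∘ₗ N, ?_, ?_, ?_⟩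
    · exact H.injective_subtype.comp (ψ.injective.comp (σ.symm.injective.comp hN))
    · have hNs : LinearMap.range N = ⊤ := LinearMap.range_eq_top.mpr (LinearMap.surjective_of_injective hN)
      rw [LinearMap.range_comp, LinearMap.range_comp, LinearMap.range_comp, hNs]
      simp
    · have : N ![1, 0, 0] = σ a' := by funext i; fin_cases i <;> simp [N, a'']
      simp [this, a']
  -- properties of frames
  have hmemH : ∀ (E : (Fin 3 → K) →ₗ[K] (Fin 4 → K)), LinearMap.range E = H → ∀ u, Tv F a (E u) = 0 :=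
    fun E hE u => (hH _).mp (hE ▸ LinearMap.mem_range_self E u)
  have hprod : ∀ (E : (Fin 3 → K) →ₗ[K] (Fin 4 → K)), Function.Injective E → LinearMap.range E = H →
      ∀ l₁ l₂ l₃ : Fin 3 → K, (∀ u, Fv F (E u) = lin l₁ u * lin l₂ u * lin l₃ u) → False := by
    intro E hEi hEr l₁ l₂ l₃ hprod
    obtain ⟨G, hG⟩ := E.exists_leftInverse_of_injective (LinearMap.ker_eq_bot.mpr hEi)
    let poly : (Fin 3 → K) → MvPolynomial (Fin 4) K := fun l => ∑ i, C (lin l (G (Pi.single i 1))) * X i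
    have hpoly : ∀ l x, eval x (poly l) = lin l (G x) := fun l x => by
      conv_rhs => rw [pi_eq_sum_univ' x]
      simp only [poly, lin, map_sum, map_smul, map_mul, eval_C, eval_X, Finset.sum_apply, Pi.smul_apply, smul_eq_mul,
        Finset.mul_sum, ← Finset.sum_add_distrib]
      exact Finset.sum_congr rfl fun i _ => by ring
    have hhom : ∀ l, (poly l).IsHomogeneous 1 := fun l =>
      IsHomogeneous.sum _ _ _ fun i _ => IsHomogeneous.C_mul (isHomogeneous_X K i) _
    refine ha ⟨poly l₁, poly l₂, poly l₃, hhom _, hhom _, hhom _, mem_span_of_vanish hm _ fun x hx => ?_⟩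
    obtain ⟨u, rfl⟩ : x ∈ LinearMap.range E := by
      rw [hEr, hH]; simpa [Tv, gv, coe_aeval_eq_eval] using hx
    rw [map_sub, map_mul, map_mul, hpoly, hpoly, hpoly,
      show G (E u) = u from LinearMap.congr_fun hG u, sub_eq_zero, ← hprod u]
    rfl
  have hshape : ∀ (E : (Fin 3 → K) →ₗ[K] (Fin 4 → K)), LinearMap.range E = H → E ![1, 0, 0] = a →
      ∃ q0 q1 q2 c0 c1 c2 c3 : K, ∀ u, Fv F (E u) =
        u 0 * (q0 * u 1 ^ 2 + q1 * u 1 * u 2 + q2 * u 2 ^ 2) + cu c0 c1 c2 c3 (u 1) (u 2) := by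
    intro E hEr hEa
    set e1 := E ![0, 1, 0]
    set e2 := E ![0, 0, 1]
    refine ⟨Tv F e1 a, Tv F (e1 + e2) a - Tv F e1 a - Tv F e2 a, Tv F e2 a, Fv F e1, Tv F e1 e2, Tv F e2 e1,
      Fv F e2, fun u => ?_⟩
    have hu : E u = u 0 • a + (u 1 • e1 + u 2 • e2) := by
      rw [← hEa, ← map_smul, ← map_smul, ← map_smul, ← map_add, ← map_add]
      congr 1
      funext i; fin_cases i <;> simp
    have hv : Tv F a (u 1 • e1 + u 2 • e2) = 0 := by
      rw [Tv_add_right, Tv_smul_right, Tv_smul_right, hmemH E hEr, hmemH E hEr, mul_zero, mul_zero, add_zero]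
    rw [hu, (expand_data hF _ _ a 1).1, (expand_data hF a a a (u 0)).2.2.1,
      show Fv F a = 0 from haF, (expand_data hF a a _ (u 0)).2.2.2.1, hv, Tv_smul_right,
      (expand_data hF e1 e2 a (u 1)).2.2.2.2.2, (expand_data hF _ _ a 1).1, (expand_data hF e1 e1 a (u 1)).2.2.1,
      (expand_data hF e2 e2 a (u 2)).2.2.1, (expand_data hF e1 e1 _ (u 1)).2.2.2.1,
      (expand_data hF e2 e2 _ (u 2)).2.2.2.1, Tv_smul_right, Tv_smul_right, cu]
    ring
  -- a normal frame
  obtain ⟨E, hEi, hEr, hEa, k, c0, c1, c2, c3, hk, hnf⟩ : ∃ E : (Fin 3 → K) →ₗ[K] (Fin 4 → K),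
      Function.Injective E ∧ LinearMap.range E = H ∧ E ![1, 0, 0] = a ∧ ∃ k c0 c1 c2 c3 : K, k ≠ 0 ∧
      ((∀ u, Fv F (E u) = k * u 0 * (u 1 * u 2) + cu c0 c1 c2 c3 (u 1) (u 2)) ∨
        ∀ u, Fv F (E u) = k * u 0 * u 1 ^ 2 + cu c0 c1 c2 c3 (u 1) (u 2)) := by
    obtain ⟨q0, q1, q2, c0, c1, c2, c3, hsh⟩ := hshape E₀ hrange hE0a
    obtain ⟨p, q, r, s, hq⟩ := bin2_split q0 q1 q2
    by_cases hzero : (p = 0 ∧ q = 0) ∨ (r = 0 ∧ s = 0)
    · exfalso
      obtain ⟨t₁, t₂, t₃, t₄, t₅, t₆, hc⟩ := bin3_split c0 c1 c2 c3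
      refine hprod E₀ hinj hrange ![0, t₁, t₂] ![0, t₃, t₄] ![0, t₅, t₆] fun u => ?_
      rw [hsh, hq, hc]
      rcases hzero with ⟨rfl, rfl⟩ | ⟨rfl, rfl⟩ <;> simp [lin]
    push Not at hzero
    obtain ⟨hl, hm'⟩ := hzero
    have hlin : ∀ x y z w : K, x * w - y * z ≠ 0 → ∃ M : (Fin 3 → K) →ₗ[K] (Fin 3 → K), Function.Injective M ∧
        M ![1, 0, 0] = ![1, 0, 0] ∧ ∀ u, M u 0 = u 0 ∧ x * M u 1 + y * M u 2 = u 1 ∧ z * M u 1 + w * M u 2 = u 2 := by
      intro x y z w hD
      refine ⟨{ toFun := fun u => ![u 0, (w * u 1 - y * u 2) / (x * w - y * z), (x * u 2 - z * u 1) / (x * w - y * z)]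
                map_add' := fun u v => by funext i; fin_cases i <;> simp <;> ring
                map_smul' := fun c u => by funext i; fin_cases i <;> simp <;> ring }, ?_, ?_, fun u => ?_⟩
      · rw [← LinearMap.ker_eq_bot, LinearMap.ker_eq_bot']
        intro u hu
        have e0 := congrFun hu 0
        have e1 := congrFun hu 1
        have e2 := congrFun hu 2
        simp [hD] at e0 e1 e2
        have f1 : (x * w - y * z) * u 1 = 0 := by linear_combination x * e1 + y * e2
        have f2 : (x * w - y * z) * u 2 = 0 := by linear_combination z * e1 + w * e2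
        funext i; fin_cases i <;> simp_all
      · funext i; fin_cases i <;> simp
      · simp only [LinearMap.coe_mk, AddHom.coe_mk, Matrix.cons_val_zero, Matrix.cons_val_one, Matrix.cons_val]
        refine ⟨trivial, ?_, ?_⟩ <;> rw [mul_div_assoc', mul_div_assoc', ← add_div, div_eq_iff hD] <;> ring
    have hframe : ∀ M : (Fin 3 → K) →ₗ[K] (Fin 3 → K), Function.Injective M → M ![1, 0, 0] = ![1, 0, 0] →
        Function.Injective (E₀ ∘ₗ M) ∧ LinearMap.range (E₀ ∘ₗ M) = H ∧ (E₀ ∘ₗ M) ![1, 0, 0] = a := by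
      intro M hM hM0
      refine ⟨hinj.comp hM, ?_, by rw [LinearMap.comp_apply, hM0, hE0a]⟩
      rw [LinearMap.range_comp, LinearMap.range_eq_top.mpr (LinearMap.surjective_of_injective hM), Submodule.map_top,
        hrange]
    by_cases hD : p * s - q * r = 0
    · -- a double root
      obtain ⟨t, ht, hr, hs⟩ : ∃ t, t ≠ 0 ∧ r = t * p ∧ s = t * q := by
        by_cases hp : p = 0
        · have hq0 : q ≠ 0 := hl hp
          have hr0 : r = 0 := by simpa [hp, hq0] using hD
          exact ⟨s / q, div_ne_zero (hm' hr0) hq0, by simp [hr0, hp], by field_simp⟩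
        · refine ⟨r / p, div_ne_zero (fun h => ?_) hp, by field_simp, ?_⟩
          · subst h; exact hm' rfl (by simpa [hp] using hD)
          · field_simp; linear_combination hD
      obtain ⟨z', w', hdet⟩ : ∃ z' w' : K, p * w' - q * z' ≠ 0 := by
        by_cases hp : p = 0
        · exact ⟨1, 0, by simpa [hp] using hl hp⟩
        · exact ⟨0, 1, by simpa using hp⟩
      obtain ⟨M, hM, hM0, hMu⟩ := hlin p q z' w' hdet
      obtain ⟨h1, h2, h3⟩ := hframe M hM hM0
      obtain ⟨q0', q1', q2', d0, d1, d2, d3, hsh'⟩ := hshape (E₀ ∘ₗ M) h2 h3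
      have hval : ∀ u, Fv F ((E₀ ∘ₗ M) u) = t * u 0 * u 1 ^ 2 +
          cu c0 c1 c2 c3 (M u 1) (M u 2) := fun u => by
        rw [LinearMap.comp_apply, hsh, hq, hr, hs, (hMu u).1]
        linear_combination u 0 * t * (p * M u 1 + q * M u 2 + u 1) * (hMu u).2.1
      refine ⟨E₀ ∘ₗ M, h1, h2, h3, t, d0, d1, d2, d3, ht, Or.inr fun u => ?_⟩
      have e1 := hsh' u
      have e2 := hsh' ![0, u 1, u 2]
      have hM' : M ![0, u 1, u 2] 1 = M u 1 ∧ M ![0, u 1, u 2] 2 = M u 2 := by
        have : u = u 0 • (![1, 0, 0] : Fin 3 → K) + ![0, u 1, u 2] := by funext i; fin_cases i <;> simp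
        constructor <;> conv_rhs => rw [this, map_add, map_smul, hM0]
        all_goals simp
      rw [hval, hM'.1, hM'.2] at e2
      simp only [Matrix.cons_val_zero, Matrix.cons_val_one, Matrix.cons_val, mul_zero, zero_mul, zero_add] at e2
      rw [hval, e2]
    · obtain ⟨M, hM, hM0, hMu⟩ := hlin p q r s hD
      obtain ⟨h1, h2, h3⟩ := hframe M hM hM0
      obtain ⟨q0', q1', q2', d0, d1, d2, d3, hsh'⟩ := hshape (E₀ ∘ₗ M) h2 h3
      have hval : ∀ u, Fv F ((E₀ ∘ₗ M) u) = 1 * u 0 * (u 1 * u 2) +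
          cu c0 c1 c2 c3 (M u 1) (M u 2) := fun u => by
        rw [LinearMap.comp_apply, hsh, hq, (hMu u).1, (hMu u).2.1, (hMu u).2.2]
        ring
      refine ⟨E₀ ∘ₗ M, h1, h2, h3, 1, d0, d1, d2, d3, one_ne_zero, Or.inl fun u => ?_⟩
      have e2 := hsh' ![0, u 1, u 2]
      have hM' : M ![0, u 1, u 2] 1 = M u 1 ∧ M ![0, u 1, u 2] 2 = M u 2 := by
        have : u = u 0 • (![1, 0, 0] : Fin 3 → K) + ![0, u 1, u 2] := by funext i; fin_cases i <;> simp
        constructor <;> conv_rhs => rw [this, map_add, map_smul, hM0]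
        all_goals simp
      rw [hval, hM'.1, hM'.2] at e2
      simp only [Matrix.cons_val_zero, Matrix.cons_val_one, Matrix.cons_val, mul_zero, zero_mul, zero_add] at e2
      rw [hval, e2]
  let f : (Fin 3 → K) → K := fun u => Fv F (E u)
  have hcond : ¬ Cond f ∧ ((∀ P, IsPolyFun P → (∀ c : K, c ≠ 0 → P ![c, 0, 0] ≠ 0) → (Zlines f P).Finite)) := by
    rcases hnf with h | h
    · have hne : c0 ≠ 0 ∨ c3 ≠ 0 := by
        by_contra! hc
        refine hprod E hEi hEr ![0, 1, 0] ![0, 0, 1] ![k, c1, c2] fun u => ?_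
        rw [h, cu, hc.1, hc.2]; simp [lin]; ring
      rw [show f = fun u => k * u 0 * (u 1 * u 2) + cu c0 c1 c2 c3 (u 1) (u 2) from funext h]
      exact ⟨fun hC => by obtain ⟨a1, a2⟩ := node_cond hk hC; exact hne.elim (· a1) (· a2),
        fun P hP hPa => finite_node hk hne hP hPa⟩
    · have hne : c2 ≠ 0 ∨ c3 ≠ 0 := by
        by_contra! hc
        refine hprod E hEi hEr ![0, 1, 0] ![0, 1, 0] ![k, c0, c1] fun u => ?_
        rw [h, cu, hc.1, hc.2]; simp [lin]; ring
      rw [show f = fun u => k * u 0 * u 1 ^ 2 + cu c0 c1 c2 c3 (u 1) (u 2) from funext h]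
      exact ⟨fun hC => by obtain ⟨a1, a2⟩ := cusp_cond hk hC; exact hne.elim (· a1) (· a2),
        fun P hP hPa => finite_cusp hk hne hP hPa⟩
  obtain ⟨hnc, hfin⟩ := hcond
  simp only [Cond, not_forall] at hnc
  obtain ⟨u₀, v₀, huv⟩ := hnc
  let Ev : Fin 3 → Fin 4 → K := fun r => E (Pi.single r 1)
  let P : (Fin 3 → K) → K := fun u => Φv F m Ev u₀ v₀ (E u)
  have hP : IsPolyFun P := fun p => by
    refine ⟨Φv F m (fun r i => Polynomial.C (Ev r i)) (fun r => Polynomial.C (u₀ r)) (fun r => Polynomial.C (v₀ r))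
      (fun i => ∑ r, p r * Polynomial.C (Ev r i)), fun t => ?_⟩
    rw [← Polynomial.coe_aeval_eq_eval, map_Φv]
    show Φv F m _ _ _ _ = Φv F m Ev u₀ v₀ (E fun r => (p r).eval t)
    congr 1
    · funext r i; simp
    · funext r; simp
    · funext r; simp
    · funext i
      conv_rhs => rw [pi_eq_sum_univ' (fun r => (p r).eval t)]
      simp [Ev, map_sum, Finset.sum_apply, Polynomial.eval_finsetSum]
  have hPa : ∀ c : K, c ≠ 0 → P ![c, 0, 0] ≠ 0 := by
    intro c hc
    have he : (![c, 0, 0] : Fin 3 → K) = c • ![1, 0, 0] := by funext i; fin_cases i <;> simp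
    show Φv F m Ev u₀ v₀ (E ![c, 0, 0]) ≠ 0
    rw [he, map_smul, hEa, Φv_smul hF]
    refine mul_ne_zero (pow_ne_zero _ hc) ?_
    have hG : Gv F m Ev a = fun u => gv F a m ^ 3 * f u := by
      funext u
      show Fv F _ = _ * Fv F (E u)
      rw [← (expand_data hF (E u) a a (gv F a m)).2.2.1]
      congr 1
      conv_rhs => rw [pi_eq_sum_univ' u]
      simp only [Wv, Ev, hmemH E hEr, zero_smul, sub_zero, map_sum, map_smul, Finset.smul_sum]
      exact Finset.sum_congr rfl fun r _ => smul_comm _ _ _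
    rw [Φv, hG, Hs_smul, Hs_smul]
    refine mul_ne_zero hgm ?_
    intro h0
    apply huv
    have h1 : (gv F a m ^ 3) ^ 4 * (Hs f u₀ * f v₀ - Hs f v₀ * f u₀) = 0 := by linear_combination h0
    exact sub_eq_zero.mp ((mul_eq_zero.mp h1).resolve_left (pow_ne_zero _ (pow_ne_zero _ hgm)))
  refine ((hfin P hP hPa).image (Submodule.map E)).subset fun U hU => ?_
  obtain ⟨hU1, hUH, hUtp⟩ := hU
  have hmap : (U.comap E).map E = U := Submodule.map_comap_eq_self (hEr.symm ▸ hUH)
  refine ⟨U.comap E, ⟨?_, fun u hu hu0 => ?_⟩, hmap⟩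
  · rw [(Submodule.equivMapOfInjective E hEi (U.comap E)).finrank_eq, hmap, hU1]
  · obtain ⟨h1, h2⟩ := htp _ (hUtp _ hu fun h => hu0 (hEi (by rw [h, map_zero])))
    exact ⟨h1, Φv_eq_zero h2 m Ev u₀ v₀⟩

end Groth.Agent.TPt86

end
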