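import Groth.Agent.TPt86.Hess

/-!
# Finiteness on rational plane cubics
-/

set_option autoImplicit false
set_option maxHeartbeats 1000000

noncomputable section

namespace Groth.Agent.TPt86

open Polynomial

variable {K : Type*} [Field K] [CharZero K]

/-- Functions which are polynomial along polynomial curves. -/
def IsPolyFun (P : (Fin 3 → K) → K) : Prop :=
  ∀ p : Fin 3 → K[X], ∃ r : K[X], ∀ t, r.eval t = P fun i => (p i).eval t

theorem finite_roots_curve {P : (Fin 3 → K) → K} (hP : IsPolyFun P) (p : Fin 3 → K[X]) (t₀ : K)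
    (h : P (fun i => (p i).eval t₀) ≠ 0) : {t | P (fun i => (p i).eval t) = 0}.Finite := by
  obtain ⟨r, hr⟩ := hP p
  have hr0 : r ≠ 0 := fun h0 => h (by rw [← hr t₀, h0, eval_zero])
  refine r.roots.finite_toSet.subset fun t ht => ?_
  simpa [hr0] using (hr t).trans ht

/-- The lines in a zero set. -/
def Zlines (f P : (Fin 3 → K) → K) : Set (Submodule K (Fin 3 → K)) :=
  {U | Module.finrank K ↥U = 1 ∧ ∀ u ∈ U, u ≠ 0 → f u = 0 ∧ P u = 0}

theorem finite_lines_of_reps {f P : (Fin 3 → K) → K} (B : Set (Fin 3 → K)) (hB : B.Finite)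
    (h : ∀ U ∈ Zlines f P, ∃ b ∈ B, b ∈ U ∧ b ≠ 0) : (Zlines f P).Finite := by
  refine (hB.image fun b => Submodule.span K {b}).subset fun U hU => ?_
  obtain ⟨b, hbB, hbU, hb⟩ := h U hU
  refine ⟨b, hbB, Submodule.eq_of_le_of_finrank_eq (Submodule.span_le.mpr (Set.singleton_subset_iff.mpr hbU)) ?_⟩
  rw [finrank_span_singleton hb, hU.1]

theorem finite_reps {f P : (Fin 3 → K) → K} (hP : IsPolyFun P) (hPa : ∀ c : K, c ≠ 0 → P ![c, 0, 0] ≠ 0)
    (cp : K[X]) (hcp : cp ≠ 0) (hf0 : ∀ w, f ![0, w, 1] = cp.eval w)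
    (D N : K[X]) (hD0 : D.eval 0 ≠ 0) (hN0 : N.eval 0 = 0) (hDN : ∀ w, D.eval w = 0 → N.eval w ≠ 0)
    (hbr : ∀ w z : K, z ≠ 0 → f ![1, w * z, z] = 0 → w = 0 ∨ D.eval w * z = N.eval w) :
    (Zlines f P).Finite := by
  have h1 : {t | P ![1, t, 0] = 0}.Finite := by
    have := finite_roots_curve hP ![1, X, 0] 0 (by
      have he : (fun i => ((![1, X, 0] : Fin 3 → K[X]) i).eval 0) = ![1, 0, 0] := by
        funext i; fin_cases i <;> simp
      rw [he]; exact hPa 1 one_ne_zero)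
    refine this.subset fun t ht => ?_
    have he : (fun i => ((![1, X, 0] : Fin 3 → K[X]) i).eval t) = ![1, t, 0] := by funext i; fin_cases i <;> simp
    show P _ = 0
    rw [he]; exact ht
  have h2 : {t | P ![1, 0, t] = 0}.Finite := by
    have := finite_roots_curve hP ![1, 0, X] 0 (by
      have he : (fun i => ((![1, 0, X] : Fin 3 → K[X]) i).eval 0) = ![1, 0, 0] := by
        funext i; fin_cases i <;> simp
      rw [he]; exact hPa 1 one_ne_zero)
    refine this.subset fun t ht => ?_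
    have he : (fun i => ((![1, 0, X] : Fin 3 → K[X]) i).eval t) = ![1, 0, t] := by funext i; fin_cases i <;> simp
    show P _ = 0
    rw [he]; exact ht
  have h3 : {w | P ![D.eval w, w * N.eval w, N.eval w] = 0}.Finite := by
    have he : ∀ w, (fun i => ((![D, X * N, N] : Fin 3 → K[X]) i).eval w) = ![D.eval w, w * N.eval w, N.eval w] :=
      fun w => by funext i; fin_cases i <;> simp
    have := finite_roots_curve hP ![D, X * N, N] 0 (by
      rw [he, hN0, mul_zero]; exact hPa _ hD0)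
    refine this.subset fun t ht => ?_
    show P _ = 0
    rw [he]; exact ht
  let B : Set (Fin 3 → K) :=
    (fun t => ![1, t, 0]) '' {t | P ![1, t, 0] = 0} ∪ (fun t => ![1, 0, t]) '' {t | P ![1, 0, t] = 0} ∪
      (fun w => ![D.eval w, w * N.eval w, N.eval w]) '' {w | P ![D.eval w, w * N.eval w, N.eval w] = 0} ∪
      ({![0, 1, 0]} ∪ (fun w => ![0, w, 1]) '' {w | cp.eval w = 0})
  refine finite_lines_of_reps B (((h1.image _).union (h2.image _)).union (h3.image _) |>.union
    ((Set.finite_singleton _).union ((cp.roots.finite_toSet.subset fun w hw => by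
      simpa [hcp] using hw).image _))) fun U hU => ?_
  obtain ⟨u, hu, hu0⟩ := Submodule.exists_mem_ne_zero_of_ne_bot
    (show U ≠ ⊥ from fun h => by subst h; simp [Zlines] at hU)
  have hne : ∀ c : K, c ≠ 0 → c • u ∈ U ∧ c • u ≠ 0 := fun c hc => ⟨U.smul_mem c hu, smul_ne_zero hc hu0⟩
  by_cases hu1 : u 0 = 0
  · by_cases hu3 : u 2 = 0
    · have hu2 : u 1 ≠ 0 := fun h => hu0 (funext fun i => by fin_cases i <;> simp [*])
      have he : (u 1)⁻¹ • u = ![0, 1, 0] := by funext i; fin_cases i <;> simp [hu1, hu3, hu2]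
      obtain ⟨hm, hn⟩ := hne _ (inv_ne_zero hu2)
      rw [he] at hm hn
      exact ⟨_, Or.inr (Or.inl rfl), hm, hn⟩
    · have he : (u 2)⁻¹ • u = ![0, u 1 / u 2, 1] := by
        funext i; fin_cases i <;> simp [hu1, hu3, div_eq_inv_mul]
      obtain ⟨hm, hn⟩ := hne _ (inv_ne_zero hu3)
      rw [he] at hm hn
      refine ⟨_, Or.inr (Or.inr ⟨_, ?_, rfl⟩), hm, hn⟩
      show cp.eval _ = 0
      rw [← hf0]; exact (hU.2 _ hm hn).1
  · have he : (u 0)⁻¹ • u = ![1, u 1 / u 0, u 2 / u 0] := by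
      funext i; fin_cases i <;> simp [hu1, div_eq_inv_mul]
    obtain ⟨hm, hn⟩ := hne _ (inv_ne_zero hu1)
    rw [he] at hm hn
    obtain ⟨hf, hPu⟩ := hU.2 _ hm hn
    by_cases hz : u 2 / u 0 = 0
    · rw [hz] at hm hn hPu
      exact ⟨_, Or.inl (Or.inl (Or.inl ⟨_, hPu, rfl⟩)), hm, hn⟩
    · generalize hy : u 1 / u 0 = y at hm hn hf hPu
      generalize hz' : u 2 / u 0 = z at hm hn hf hPu hz
      obtain ⟨w, rfl⟩ : ∃ w, y = w * z := ⟨y / z, (div_mul_cancel₀ y hz).symm⟩
      rcases hbr w z hz hf with rfl | hD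
      · rw [zero_mul] at hm hn hPu
        exact ⟨_, Or.inl (Or.inl (Or.inr ⟨_, hPu, rfl⟩)), hm, hn⟩
      · have hDne : D.eval w ≠ 0 := fun h0 => hDN w h0 (by rw [← hD, h0, zero_mul])
        have he2 : D.eval w • (![1, w * z, z] : Fin 3 → K) = ![D.eval w, w * N.eval w, N.eval w] := by
          funext i; fin_cases i <;> simp [← hD]; ring
        have hm2 := U.smul_mem (D.eval w) hm
        have hn2 := smul_ne_zero hDne hn
        rw [he2] at hm2 hn2
        exact ⟨_, Or.inl (Or.inr ⟨_, (hU.2 _ hm2 hn2).2, rfl⟩), hm2, hn2⟩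

/-- Interchanging the last two coordinates. -/
def sw : (Fin 3 → K) ≃ₗ[K] (Fin 3 → K) := LinearEquiv.funCongrLeft K K (Equiv.swap (1 : Fin 3) 2)

theorem sw_apply (u : Fin 3 → K) : sw u = ![u 0, u 2, u 1] := by
  funext i; fin_cases i <;> rfl

theorem cpoly_eval (c0 c1 c2 c3 w : K) :
    (C c0 * X ^ 3 + C c1 * X ^ 2 + C c2 * X + C c3).eval w = cu c0 c1 c2 c3 w 1 := by
  simp [cu]

theorem finite_node {k c0 c1 c2 c3 : K} (hk : k ≠ 0) (hc : c0 ≠ 0 ∨ c3 ≠ 0) {P : (Fin 3 → K) → K}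
    (hP : IsPolyFun P) (hPa : ∀ c : K, c ≠ 0 → P ![c, 0, 0] ≠ 0) :
    (Zlines (fun u => k * u 0 * (u 1 * u 2) + cu c0 c1 c2 c3 (u 1) (u 2)) P).Finite := by
  have main : ∀ (c0 c1 c2 c3 : K) (P : (Fin 3 → K) → K), c3 ≠ 0 → IsPolyFun P →
      (∀ c : K, c ≠ 0 → P ![c, 0, 0] ≠ 0) →
      (Zlines (fun u => k * u 0 * (u 1 * u 2) + cu c0 c1 c2 c3 (u 1) (u 2)) P).Finite := by
    intro c0 c1 c2 c3 P h3 hP hPa
    let D : K[X] := C c0 * X ^ 3 + C c1 * X ^ 2 + C c2 * X + C c3
    have hD : D.eval 0 = c3 := by simp [D]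
    refine finite_reps hP hPa D (fun h => h3 (by rw [← hD, h, eval_zero])) (fun w => ?_) D (-(C k * X)) ?_ (by simp)
      (fun w h0 => ?_) fun w z hz hf => Or.inr ?_
    · simp only [D, cpoly_eval]; simp
    · rwa [hD]
    · have hw : w ≠ 0 := fun hw => h3 (by rw [← hD]; rw [hw] at h0; exact h0)
      simp [hk, hw]
    · simp only [cu, Matrix.cons_val_zero, Matrix.cons_val_one, Matrix.cons_val] at hf
      refine mul_left_cancel₀ (pow_ne_zero 2 hz) ?_
      simp only [D, cpoly_eval, eval_neg, eval_mul, eval_C, eval_X, cu]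
      linear_combination hf
  by_cases h3 : c3 = 0
  · have h0 : c0 ≠ 0 := hc.resolve_right (not_not.mpr h3)
    have hP' : IsPolyFun (P ∘ sw) := fun p => by
      obtain ⟨r, hr⟩ := hP ![p 0, p 2, p 1]
      refine ⟨r, fun t => (hr t).trans ?_⟩
      rw [Function.comp_apply, sw_apply]
      congr 1
      funext i; fin_cases i <;> rfl
    have := main c3 c2 c1 c0 (P ∘ sw) h0 hP' fun c hc => by
      rw [Function.comp_apply, sw_apply]; simpa using hPa c hc
    refine (this.image (Submodule.map sw.toLinearMap)).subset fun U hU => ?_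
    refine ⟨U.map sw.symm.toLinearMap, ⟨?_, fun v hv hv0 => ?_⟩, ?_⟩
    · rw [LinearEquiv.finrank_map_eq]; exact hU.1
    · obtain ⟨u, hu, rfl⟩ := Submodule.mem_map.mp hv
      have := hU.2 u hu fun h => hv0 (by rw [h, map_zero])
      refine ⟨?_, by simpa using this.2⟩
      have h1 := this.1
      have hs : (sw.symm : (Fin 3 → K) ≃ₗ[K] _) u = ![u 0, u 2, u 1] :=
        (LinearEquiv.symm_apply_eq _).mpr (by rw [sw_apply]; funext i; fin_cases i <;> rfl)
      simp only [LinearEquiv.coe_coe, hs, Matrix.cons_val_zero, Matrix.cons_val_one, Matrix.cons_val, cu] at h1 ⊢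
      linear_combination h1
    · rw [← Submodule.map_comp]; simp
  · exact main c0 c1 c2 c3 P h3 hP hPa

theorem finite_cusp {k c0 c1 c2 c3 : K} (hk : k ≠ 0) (hc : c2 ≠ 0 ∨ c3 ≠ 0) {P : (Fin 3 → K) → K}
    (hP : IsPolyFun P) (hPa : ∀ c : K, c ≠ 0 → P ![c, 0, 0] ≠ 0) :
    (Zlines (fun u => k * u 0 * u 1 ^ 2 + cu c0 c1 c2 c3 (u 1) (u 2)) P).Finite := by
  let C3 : K[X] := C c0 * X ^ 3 + C c1 * X ^ 2 + C c2 * X + C c3
  by_cases h3 : c3 = 0
  · have h2 : c2 ≠ 0 := hc.resolve_right (not_not.mpr h3)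
    let D : K[X] := C c0 * X ^ 2 + C c1 * X + C c2
    have hD : D.eval 0 = c2 := by simp [D]
    have hC3 : C3 ≠ 0 := fun h => h2 (by
      have := congrArg (fun p => Polynomial.coeff p 1) h
      simpa [C3, coeff_C, coeff_X_pow, coeff_X] using this)
    refine finite_reps hP hPa C3 hC3 (fun w => ?_) D (-(C k * X)) (by rwa [hD]) (by simp) (fun w h0 => ?_)
      fun w z hz hf => ?_
    · simp only [C3, cpoly_eval]; simp
    · have hw : w ≠ 0 := fun hw => h2 (by rw [← hD]; rw [hw] at h0; exact h0)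
      simp [hk, hw]
    · by_cases hw : w = 0
      · exact Or.inl hw
      refine Or.inr ?_
      simp only [cu, Matrix.cons_val_zero, Matrix.cons_val_one, Matrix.cons_val, h3] at hf
      refine mul_left_cancel₀ (mul_ne_zero (pow_ne_zero 2 hz) hw) ?_
      simp only [D, eval_neg, eval_mul, eval_C, eval_X, eval_add, eval_pow]
      linear_combination hf
  · have hD : C3.eval 0 = c3 := by simp [C3]
    refine finite_reps hP hPa C3 (fun h => h3 (by rw [← hD, h, eval_zero])) (fun w => ?_) C3 (-(C k * X ^ 2))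
      (by rwa [hD]) (by simp) (fun w h0 => ?_) fun w z hz hf => Or.inr ?_
    · simp only [C3, cpoly_eval]; simp
    · have hw : w ≠ 0 := fun hw => h3 (by rw [← hD]; rw [hw] at h0; exact h0)
      simp [hk, hw]
    · simp only [cu, Matrix.cons_val_zero, Matrix.cons_val_one, Matrix.cons_val] at hf
      refine mul_left_cancel₀ (pow_ne_zero 2 hz) ?_
      simp only [C3, cpoly_eval, eval_neg, eval_mul, eval_C, eval_X, eval_pow, cu]
      linear_combination hf

end Groth.Agent.TPt86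

end
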