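import Groth.Agent.TPt86.Main

/-!
# Normal frames of the tangent plane at a point which is not a T-point, and the obstruction
-/

set_option autoImplicit false
set_option maxHeartbeats 1000000

noncomputable section

namespace Groth.Agent.TPt86

open MvPolynomial

variable {K : Type*} [Field K] [CharZero K] [IsAlgClosed K]

/-- A normal frame of the tangent plane. -/
structure NFrame (F : MvPolynomial (Fin 4) K) (a : Fin 4 → K) where
  E : (Fin 3 → K) →ₗ[K] (Fin 4 → K)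
  inj : Function.Injective E
  apply_first : E ![1, 0, 0] = a
  range_iff : ∀ x, (∃ u, E u = x) ↔ Tv F a x = 0
  k : K
  c0 : K
  c1 : K
  c2 : K
  c3 : K
  hk : k ≠ 0
  normal : ((c0 ≠ 0 ∨ c3 ≠ 0) ∧ ∀ u, Fv F (E u) = k * u 0 * (u 1 * u 2) + cu c0 c1 c2 c3 (u 1) (u 2)) ∨
    ((c2 ≠ 0 ∨ c3 ≠ 0) ∧ ∀ u, Fv F (E u) = k * u 0 * u 1 ^ 2 + cu c0 c1 c2 c3 (u 1) (u 2))
  not_prod : ∀ l₁ l₂ l₃ : Fin 3 → K, ¬ ∀ u, Fv F (E u) = lin l₁ u * lin l₂ u * lin l₃ u

theorem exists_nframe {F : MvPolynomial (Fin 4) K} (hF : F.IsHomogeneous 3) {a : Fin 4 → K} (ha0 : a ≠ 0)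
    (haF : eval a F = 0) {m : Fin 4} (hm : eval a (pderiv m F) ≠ 0) (ha : ¬ Split3 F a) :
    Nonempty (NFrame F a) := by
  let H : Submodule K (Fin 4 → K) :=
    { carrier := {x | Tv F a x = 0}
      add_mem' := fun {x y} hx hy => by
        simp only [Set.mem_setOf_eq] at hx hy ⊢
        rw [Tv_add_right, hx, hy, add_zero]
      zero_mem' := by simp [Tv]
      smul_mem' := fun c x hx => by
        simp only [Set.mem_setOf_eq] at hx ⊢
        rw [Tv_smul_right, hx, mul_zero] }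
  have hH : ∀ x, x ∈ H ↔ Tv F a x = 0 := fun x => Iff.rfl
  classical
  have hgm : gv F a m ≠ 0 := hm
  let φ : Module.Dual K (Fin 4 → K) :=
    { toFun := Tv F a, map_add' := Tv_add_right F a, map_smul' := fun c v => Tv_smul_right F a v c }
  have hHker : H = LinearMap.ker φ := Submodule.ext hH
  have hφ : φ ≠ 0 := fun h => hgm (by rw [gv_eq_Tv]; exact LinearMap.congr_fun h _)
  have hrank : Module.finrank K ↥H = 3 := by
    have := Module.Dual.finrank_ker_add_one_of_ne_zero hφ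
    rw [← hHker, Module.finrank_fin_fun] at this
    omega
  have haa : Tv F a a = 0 := by rw [(expand_data hF a a a 1).2.2.2.2.1, show Fv F a = 0 from haF, mul_zero]
  -- a frame of `H` starting with `a`
  obtain ⟨E₀, hinj, hrange, hE0a⟩ : ∃ E : (Fin 3 → K) →ₗ[K] (Fin 4 → K), Function.Injective E ∧
      LinearMap.range E = H ∧ E ![1, 0, 0] = a := by
    let ψ : (Fin 3 → K) ≃ₗ[K] ↥H := LinearEquiv.ofFinrankEq _ _ (by rw [hrank, Module.finrank_fin_fun])
    let a' := ψ.symm ⟨a, (hH a).mpr haa⟩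
    obtain ⟨j, hj⟩ : ∃ j, a' j ≠ 0 := by
      by_contra! h
      exact ha0 (congrArg Subtype.val (ψ.symm.map_eq_zero_iff.mp (show a' = 0 from funext h)))
    let σ : (Fin 3 → K) ≃ₗ[K] (Fin 3 → K) := LinearEquiv.funCongrLeft K K (Equiv.swap 0 j)
    let a'' := σ a'
    have ha'' : a'' 0 ≠ 0 := by simpa [a'', σ, LinearEquiv.funCongrLeft_apply, LinearMap.funLeft] using hj
    let N : (Fin 3 → K) →ₗ[K] (Fin 3 → K) :=
      { toFun := fun u => ![u 0 * a'' 0, u 0 * a'' 1 + u 1, u 0 * a'' 2 + u 2]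
        map_add' := fun u v => by funext i; fin_cases i <;> simp <;> ring
        map_smul' := fun c u => by funext i; fin_cases i <;> simp <;> ring }
    have hN : Function.Injective N := by
      rw [← LinearMap.ker_eq_bot, LinearMap.ker_eq_bot']
      intro u hu
      have e0 := congrFun hu 0
      have e1 := congrFun hu 1
      have e2 := congrFun hu 2
      simp [N, ha''] at e0 e1 e2
      funext i; fin_cases i <;> simp_all
    refine ⟨H.subtype ∘ₗ ψ.toLinearMap ∘ₗ σ.symm.toLinearMap ∘ₗ N, ?_, ?_, ?_⟩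
    · exact H.injective_subtype.comp (ψ.injective.comp (σ.symm.injective.comp hN))
    · have hNs : LinearMap.range N = ⊤ := LinearMap.range_eq_top.mpr (LinearMap.surjective_of_injective hN)
      rw [LinearMap.range_comp, LinearMap.range_comp, LinearMap.range_comp, hNs]
      simp
    · have : N ![1, 0, 0] = σ a' := by funext i; fin_cases i <;> simp [N, a'']
      simp [this, a']
  -- properties of frames
  have hmemH : ∀ (E : (Fin 3 → K) →ₗ[K] (Fin 4 → K)), LinearMap.range E = H → ∀ u, Tv F a (E u) = 0 :=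
    fun E hE u => (hH _).mp (hE ▸ LinearMap.mem_range_self E u)
  have hprod : ∀ (E : (Fin 3 → K) →ₗ[K] (Fin 4 → K)), Function.Injective E → LinearMap.range E = H →
      ∀ l₁ l₂ l₃ : Fin 3 → K, (∀ u, Fv F (E u) = lin l₁ u * lin l₂ u * lin l₃ u) → False := by
    intro E hEi hEr l₁ l₂ l₃ hprod
    obtain ⟨G, hG⟩ := E.exists_leftInverse_of_injective (LinearMap.ker_eq_bot.mpr hEi)
    let poly : (Fin 3 → K) → MvPolynomial (Fin 4) K := fun l => ∑ i, C (lin l (G (Pi.single i 1))) * X i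
    have hpoly : ∀ l x, eval x (poly l) = lin l (G x) := fun l x => by
      conv_rhs => rw [pi_eq_sum_univ' x]
      simp only [poly, lin, map_sum, map_smul, map_mul, eval_C, eval_X, Finset.sum_apply, Pi.smul_apply, smul_eq_mul,
        Finset.mul_sum, ← Finset.sum_add_distrib]
      exact Finset.sum_congr rfl fun i _ => by ring
    have hhom : ∀ l, (poly l).IsHomogeneous 1 := fun l =>
      IsHomogeneous.sum _ _ _ fun i _ => IsHomogeneous.C_mul (isHomogeneous_X K i) _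
    refine ha ⟨poly l₁, poly l₂, poly l₃, hhom _, hhom _, hhom _, mem_span_of_vanish hm _ fun x hx => ?_⟩
    obtain ⟨u, rfl⟩ : x ∈ LinearMap.range E := by
      rw [hEr, hH]; simpa [Tv, gv, coe_aeval_eq_eval] using hx
    rw [map_sub, map_mul, map_mul, hpoly, hpoly, hpoly,
      show G (E u) = u from LinearMap.congr_fun hG u, sub_eq_zero, ← hprod u]
    rfl
  have hshape : ∀ (E : (Fin 3 → K) →ₗ[K] (Fin 4 → K)), LinearMap.range E = H → E ![1, 0, 0] = a →
      ∃ q0 q1 q2 c0 c1 c2 c3 : K, ∀ u, Fv F (E u) =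
        u 0 * (q0 * u 1 ^ 2 + q1 * u 1 * u 2 + q2 * u 2 ^ 2) + cu c0 c1 c2 c3 (u 1) (u 2) := by
    intro E hEr hEa
    set e1 := E ![0, 1, 0]
    set e2 := E ![0, 0, 1]
    refine ⟨Tv F e1 a, Tv F (e1 + e2) a - Tv F e1 a - Tv F e2 a, Tv F e2 a, Fv F e1, Tv F e1 e2, Tv F e2 e1,
      Fv F e2, fun u => ?_⟩
    have hu : E u = u 0 • a + (u 1 • e1 + u 2 • e2) := by
      rw [← hEa, ← map_smul, ← map_smul, ← map_smul, ← map_add, ← map_add]
      congr 1
      funext i; fin_cases i <;> simp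
    have hv : Tv F a (u 1 • e1 + u 2 • e2) = 0 := by
      rw [Tv_add_right, Tv_smul_right, Tv_smul_right, hmemH E hEr, hmemH E hEr, mul_zero, mul_zero, add_zero]
    rw [hu, (expand_data hF _ _ a 1).1, (expand_data hF a a a (u 0)).2.2.1,
      show Fv F a = 0 from haF, (expand_data hF a a _ (u 0)).2.2.2.1, hv, Tv_smul_right,
      (expand_data hF e1 e2 a (u 1)).2.2.2.2.2, (expand_data hF _ _ a 1).1, (expand_data hF e1 e1 a (u 1)).2.2.1,
      (expand_data hF e2 e2 a (u 2)).2.2.1, (expand_data hF e1 e1 _ (u 1)).2.2.2.1,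
      (expand_data hF e2 e2 _ (u 2)).2.2.2.1, Tv_smul_right, Tv_smul_right, cu]
    ring
  -- a normal frame
  obtain ⟨E, hEi, hEr, hEa, k, c0, c1, c2, c3, hk, hnf⟩ : ∃ E : (Fin 3 → K) →ₗ[K] (Fin 4 → K),
      Function.Injective E ∧ LinearMap.range E = H ∧ E ![1, 0, 0] = a ∧ ∃ k c0 c1 c2 c3 : K, k ≠ 0 ∧
      ((∀ u, Fv F (E u) = k * u 0 * (u 1 * u 2) + cu c0 c1 c2 c3 (u 1) (u 2)) ∨
        ∀ u, Fv F (E u) = k * u 0 * u 1 ^ 2 + cu c0 c1 c2 c3 (u 1) (u 2)) := by
    obtain ⟨q0, q1, q2, c0, c1, c2, c3, hsh⟩ := hshape E₀ hrange hE0a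
    obtain ⟨p, q, r, s, hq⟩ := bin2_split q0 q1 q2
    by_cases hzero : (p = 0 ∧ q = 0) ∨ (r = 0 ∧ s = 0)
    · exfalso
      obtain ⟨t₁, t₂, t₃, t₄, t₅, t₆, hc⟩ := bin3_split c0 c1 c2 c3
      refine hprod E₀ hinj hrange ![0, t₁, t₂] ![0, t₃, t₄] ![0, t₅, t₆] fun u => ?_
      rw [hsh, hq, hc]
      rcases hzero with ⟨rfl, rfl⟩ | ⟨rfl, rfl⟩ <;> simp [lin]
    push Not at hzero
    obtain ⟨hl, hm'⟩ := hzero
    have hlin : ∀ x y z w : K, x * w - y * z ≠ 0 → ∃ M : (Fin 3 → K) →ₗ[K] (Fin 3 → K), Function.Injective M ∧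
        M ![1, 0, 0] = ![1, 0, 0] ∧ ∀ u, M u 0 = u 0 ∧ x * M u 1 + y * M u 2 = u 1 ∧ z * M u 1 + w * M u 2 = u 2 := by
      intro x y z w hD
      refine ⟨{ toFun := fun u => ![u 0, (w * u 1 - y * u 2) / (x * w - y * z), (x * u 2 - z * u 1) / (x * w - y * z)]
                map_add' := fun u v => by funext i; fin_cases i <;> simp <;> ring
                map_smul' := fun c u => by funext i; fin_cases i <;> simp <;> ring }, ?_, ?_, fun u => ?_⟩
      · rw [← LinearMap.ker_eq_bot, LinearMap.ker_eq_bot']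
        intro u hu
        have e0 := congrFun hu 0
        have e1 := congrFun hu 1
        have e2 := congrFun hu 2
        simp [hD] at e0 e1 e2
        have f1 : (x * w - y * z) * u 1 = 0 := by linear_combination x * e1 + y * e2
        have f2 : (x * w - y * z) * u 2 = 0 := by linear_combination z * e1 + w * e2
        funext i; fin_cases i <;> simp_all
      · funext i; fin_cases i <;> simp
      · simp only [LinearMap.coe_mk, AddHom.coe_mk, Matrix.cons_val_zero, Matrix.cons_val_one, Matrix.cons_val]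
        refine ⟨trivial, ?_, ?_⟩ <;> rw [mul_div_assoc', mul_div_assoc', ← add_div, div_eq_iff hD] <;> ring
    have hframe : ∀ M : (Fin 3 → K) →ₗ[K] (Fin 3 → K), Function.Injective M → M ![1, 0, 0] = ![1, 0, 0] →
        Function.Injective (E₀ ∘ₗ M) ∧ LinearMap.range (E₀ ∘ₗ M) = H ∧ (E₀ ∘ₗ M) ![1, 0, 0] = a := by
      intro M hM hM0
      refine ⟨hinj.comp hM, ?_, by rw [LinearMap.comp_apply, hM0, hE0a]⟩
      rw [LinearMap.range_comp, LinearMap.range_eq_top.mpr (LinearMap.surjective_of_injective hM), Submodule.map_top,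
        hrange]
    by_cases hD : p * s - q * r = 0
    · -- a double root
      obtain ⟨t, ht, hr, hs⟩ : ∃ t, t ≠ 0 ∧ r = t * p ∧ s = t * q := by
        by_cases hp : p = 0
        · have hq0 : q ≠ 0 := hl hp
          have hr0 : r = 0 := by simpa [hp, hq0] using hD
          exact ⟨s / q, div_ne_zero (hm' hr0) hq0, by simp [hr0, hp], by field_simp⟩
        · refine ⟨r / p, div_ne_zero (fun h => ?_) hp, by field_simp, ?_⟩
          · subst h; exact hm' rfl (by simpa [hp] using hD)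
          · field_simp; linear_combination hD
      obtain ⟨z', w', hdet⟩ : ∃ z' w' : K, p * w' - q * z' ≠ 0 := by
        by_cases hp : p = 0
        · exact ⟨1, 0, by simpa [hp] using hl hp⟩
        · exact ⟨0, 1, by simpa using hp⟩
      obtain ⟨M, hM, hM0, hMu⟩ := hlin p q z' w' hdet
      obtain ⟨h1, h2, h3⟩ := hframe M hM hM0
      obtain ⟨q0', q1', q2', d0, d1, d2, d3, hsh'⟩ := hshape (E₀ ∘ₗ M) h2 h3
      have hval : ∀ u, Fv F ((E₀ ∘ₗ M) u) = t * u 0 * u 1 ^ 2 +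
          cu c0 c1 c2 c3 (M u 1) (M u 2) := fun u => by
        rw [LinearMap.comp_apply, hsh, hq, hr, hs, (hMu u).1]
        linear_combination u 0 * t * (p * M u 1 + q * M u 2 + u 1) * (hMu u).2.1
      refine ⟨E₀ ∘ₗ M, h1, h2, h3, t, d0, d1, d2, d3, ht, Or.inr fun u => ?_⟩
      have e1 := hsh' u
      have e2 := hsh' ![0, u 1, u 2]
      have hM' : M ![0, u 1, u 2] 1 = M u 1 ∧ M ![0, u 1, u 2] 2 = M u 2 := by
        have : u = u 0 • (![1, 0, 0] : Fin 3 → K) + ![0, u 1, u 2] := by funext i; fin_cases i <;> simp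
        constructor <;> conv_rhs => rw [this, map_add, map_smul, hM0]
        all_goals simp
      rw [hval, hM'.1, hM'.2] at e2
      simp only [Matrix.cons_val_zero, Matrix.cons_val_one, Matrix.cons_val, mul_zero, zero_mul, zero_add] at e2
      rw [hval, e2]
    · obtain ⟨M, hM, hM0, hMu⟩ := hlin p q r s hD
      obtain ⟨h1, h2, h3⟩ := hframe M hM hM0
      obtain ⟨q0', q1', q2', d0, d1, d2, d3, hsh'⟩ := hshape (E₀ ∘ₗ M) h2 h3
      have hval : ∀ u, Fv F ((E₀ ∘ₗ M) u) = 1 * u 0 * (u 1 * u 2) +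
          cu c0 c1 c2 c3 (M u 1) (M u 2) := fun u => by
        rw [LinearMap.comp_apply, hsh, hq, (hMu u).1, (hMu u).2.1, (hMu u).2.2]
        ring
      refine ⟨E₀ ∘ₗ M, h1, h2, h3, 1, d0, d1, d2, d3, one_ne_zero, Or.inl fun u => ?_⟩
      have e2 := hsh' ![0, u 1, u 2]
      have hM' : M ![0, u 1, u 2] 1 = M u 1 ∧ M ![0, u 1, u 2] 2 = M u 2 := by
        have : u = u 0 • (![1, 0, 0] : Fin 3 → K) + ![0, u 1, u 2] := by funext i; fin_cases i <;> simp
        constructor <;> conv_rhs => rw [this, map_add, map_smul, hM0]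
        all_goals simp
      rw [hval, hM'.1, hM'.2] at e2
      simp only [Matrix.cons_val_zero, Matrix.cons_val_one, Matrix.cons_val, mul_zero, zero_mul, zero_add] at e2
      rw [hval, e2]
  have hran : ∀ x, (∃ u, E u = x) ↔ Tv F a x = 0 := fun x => by rw [← hH, ← hEr]; rfl
  refine ⟨⟨E, hEi, hEa, hran, k, c0, c1, c2, c3, hk, ?_, fun l₁ l₂ l₃ h => hprod E hEi hEr l₁ l₂ l₃ h⟩⟩
  rcases hnf with h | h
  · refine Or.inl ⟨?_, h⟩
    by_contra! hc
    refine hprod E hEi hEr ![0, 1, 0] ![0, 0, 1] ![k, c1, c2] fun u => ?_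
    rw [h, cu, hc.1, hc.2]; simp [lin]; ring
  · refine Or.inr ⟨?_, h⟩
    by_contra! hc
    refine hprod E hEi hEr ![0, 1, 0] ![0, 1, 0] ![k, c0, c1] fun u => ?_
    rw [h, cu, hc.1, hc.2]; simp [lin]; ring

/-- The obstruction does not vanish at a point which is not a T-point. -/
theorem exists_obstruction {F : MvPolynomial (Fin 4) K} (hF : F.IsHomogeneous 3) {a : Fin 4 → K} (ha0 : a ≠ 0)
    (haF : eval a F = 0) {m : Fin 4} (hm : eval a (pderiv m F) ≠ 0) (ha : ¬ Split3 F a) :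
    ∃ (Ev : Fin 3 → Fin 4 → K) (u₀ v₀ : Fin 3 → K), Φv F m Ev u₀ v₀ a ≠ 0 := by
  obtain ⟨N⟩ := exists_nframe hF ha0 haF hm ha
  obtain ⟨E, -, -, hran, k, c0, c1, c2, c3, hk, hnf, -⟩ := N
  have hgm : gv F a m ≠ 0 := hm
  let f : (Fin 3 → K) → K := fun u => Fv F (E u)
  have hnc : ¬ Cond f := by
    rcases hnf with ⟨hne, h⟩ | ⟨hne, h⟩
    · rw [show f = fun u => k * u 0 * (u 1 * u 2) + cu c0 c1 c2 c3 (u 1) (u 2) from funext h]
      intro hC; obtain ⟨a1, a2⟩ := node_cond hk hC; exact hne.elim (· a1) (· a2)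
    · rw [show f = fun u => k * u 0 * u 1 ^ 2 + cu c0 c1 c2 c3 (u 1) (u 2) from funext h]
      intro hC; obtain ⟨a1, a2⟩ := cusp_cond hk hC; exact hne.elim (· a1) (· a2)
  simp only [Cond, not_forall] at hnc
  obtain ⟨u₀, v₀, huv⟩ := hnc
  let Ev : Fin 3 → Fin 4 → K := fun r => E (Pi.single r 1)
  have hG : Gv F m Ev a = fun u => gv F a m ^ 3 * f u := by
    funext u
    show Fv F _ = _ * Fv F (E u)
    rw [← (expand_data hF (E u) a a (gv F a m)).2.2.1]
    congr 1
    conv_rhs => rw [pi_eq_sum_univ' u]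
    simp only [Wv, Ev, fun v => (hran (E v)).mp ⟨v, rfl⟩, zero_smul, sub_zero, map_sum, map_smul, Finset.smul_sum]
    exact Finset.sum_congr rfl fun r _ => smul_comm _ _ _
  refine ⟨Ev, u₀, v₀, ?_⟩
  rw [Φv, hG, Hs_smul, Hs_smul]
  refine mul_ne_zero hgm ?_
  intro h0
  apply huv
  have h1 : (gv F a m ^ 3) ^ 4 * (Hs f u₀ * f v₀ - Hs f v₀ * f u₀) = 0 := by linear_combination h0
  exact sub_eq_zero.mp ((mul_eq_zero.mp h1).resolve_left (pow_ne_zero _ (pow_ne_zero _ hgm)))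

end Groth.Agent.TPt86

end
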