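import Mathlib

/-!
# Hessians of ternary cubic functions with a double point
-/

set_option autoImplicit false
set_option maxHeartbeats 2000000

universe u

noncomputable section

namespace Groth.Agent.TPt86

variable {R : Type*} [CommRing R] {ι : Type*}

/-- Polarisation of a cubic function. -/
def S3 (f : (ι → R) → R) (x y z : ι → R) : R :=
  f (x + y + z) - f (x + y) - f (x + z) - f (y + z) + f x + f y + f z

/-- The unit vectors of `R³`. -/
def un (r : Fin 3) : Fin 3 → R := Pi.single r 1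

/-- Explicit determinant. -/
def det3 (M : Fin 3 → Fin 3 → R) : R :=
  M 0 0 * (M 1 1 * M 2 2 - M 1 2 * M 2 1) - M 0 1 * (M 1 0 * M 2 2 - M 1 2 * M 2 0) +
    M 0 2 * (M 1 0 * M 2 1 - M 1 1 * M 2 0)

/-- The Hessian. -/
def Hs (f : (Fin 3 → R) → R) (u : Fin 3 → R) : R := det3 fun r s => S3 f u (un r) (un s)

theorem map_S3 {S : Type*} [CommRing S] (φ : R →+* S) (f : (ι → R) → R) (f' : (ι → S) → S)
    (hf : ∀ x, φ (f x) = f' (φ ∘ x)) (x y z : ι → R) : φ (S3 f x y z) = S3 f' (φ ∘ x) (φ ∘ y) (φ ∘ z) := by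
  have hadd : ∀ x y : ι → R, φ ∘ (x + y) = φ ∘ x + φ ∘ y := fun x y => funext fun i => map_add φ _ _
  simp only [S3, map_add, map_sub, hf, hadd]

theorem map_Hs {S : Type*} [CommRing S] (φ : R →+* S) (f : (Fin 3 → R) → R) (f' : (Fin 3 → S) → S)
    (hf : ∀ x, φ (f x) = f' (φ ∘ x)) (u : Fin 3 → R) : φ (Hs f u) = Hs f' (φ ∘ u) := by
  have hu : ∀ r, φ ∘ (un r : Fin 3 → R) = un r := fun r => funext fun i => by
    simp [un, Pi.single_apply, apply_ite φ]
  simp only [Hs, det3, map_add, map_sub, map_mul, map_S3 φ f f' hf, hu]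

theorem Hs_smul (c : R) (f : (Fin 3 → R) → R) (u : Fin 3 → R) : Hs (fun x => c * f x) u = c ^ 3 * Hs f u := by
  simp only [Hs, det3, S3]
  ring

/-- A linear form. -/
def lin (l : Fin 3 → R) (u : Fin 3 → R) : R := l 0 * u 0 + l 1 * u 1 + l 2 * u 2

theorem lin_un (l : Fin 3 → R) (r : Fin 3) : lin l (un r) = l r := by
  fin_cases r <;> simp [lin, un]

theorem S3_prod (l m n : Fin 3 → R) (x y z : Fin 3 → R) :
    S3 (fun u => lin l u * lin m u * lin n u) x y z =
      lin l x * lin m y * lin n z + lin l x * lin n y * lin m z + lin m x * lin l y * lin n z +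
        lin m x * lin n y * lin l z + lin n x * lin l y * lin m z + lin n x * lin m y * lin l z := by
  simp only [S3, lin, Pi.add_apply]
  ring

/-- The Hessian of a product of three linear forms. -/
theorem Hs_prod (l m n : Fin 3 → R) (u : Fin 3 → R) :
    Hs (fun u => lin l u * lin m u * lin n u) u =
      2 * (det3 ![l, m, n]) ^ 2 * (lin l u * lin m u * lin n u) := by
  simp only [Hs, det3, S3_prod, lin_un]
  simp only [Matrix.cons_val_zero, Matrix.cons_val_one, Matrix.cons_val_two, Matrix.head_cons, Matrix.tail_cons]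
  ring

/-- A binary cubic. -/
def cu (c0 c1 c2 c3 y z : R) : R := c0 * y ^ 3 + c1 * y ^ 2 * z + c2 * y * z ^ 2 + c3 * z ^ 3

/-- The condition that the Hessian is proportional. -/
def Cond (f : (Fin 3 → R) → R) : Prop := ∀ u v, Hs f u * f v = Hs f v * f u

theorem Hs_node (k c0 c1 c2 c3 : R) (u : Fin 3 → R) :
    Hs (fun u => k * u 0 * (u 1 * u 2) + cu c0 c1 c2 c3 (u 1) (u 2)) u =
      k ^ 2 * (2 * k * u 0 * u 1 * u 2 - 6 * c0 * u 1 ^ 3 - 6 * c3 * u 2 ^ 3 + 2 * c2 * u 1 * u 2 ^ 2 +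
        2 * c1 * u 1 ^ 2 * u 2) := by
  simp only [Hs, det3, S3, cu, un, Pi.add_apply]
  simp
  ring

theorem Hs_cusp (k c0 c1 c2 c3 : R) (u : Fin 3 → R) :
    Hs (fun u => k * u 0 * u 1 ^ 2 + cu c0 c1 c2 c3 (u 1) (u 2)) u =
      -4 * k ^ 2 * u 1 ^ 2 * (2 * c2 * u 1 + 6 * c3 * u 2) := by
  simp only [Hs, det3, S3, cu, un, Pi.add_apply]
  simp
  ring

variable {K : Type*} [Field K] [CharZero K]

theorem node_cond {k c0 c1 c2 c3 : K} (hk : k ≠ 0)
    (h : Cond fun u : Fin 3 → K => k * u 0 * (u 1 * u 2) + cu c0 c1 c2 c3 (u 1) (u 2)) : c0 = 0 ∧ c3 = 0 := by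
  have key : ∀ x y z s t : K, _ := fun x y z s t => h ![0, s, t] ![x, y, z]
  simp only [Hs_node] at key
  simp only [cu] at key
  have a1 := key 0 1 1 1 0
  have a2 := key 1 1 1 1 0
  have b1 := key 0 1 1 0 1
  have b2 := key 1 1 1 0 1
  simp only [Matrix.cons_val_zero, Matrix.cons_val_one, Matrix.cons_val, Matrix.head_cons, Matrix.tail_cons] at a1 a2 b1 b2
  constructor
  · have : 8 * k ^ 3 * c0 = 0 := by linear_combination a1 - a2
    simpa [hk] using this
  · have : 8 * k ^ 3 * c3 = 0 := by linear_combination b1 - b2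
    simpa [hk] using this

theorem cusp_cond {k c0 c1 c2 c3 : K} (hk : k ≠ 0)
    (h : Cond fun u : Fin 3 → K => k * u 0 * u 1 ^ 2 + cu c0 c1 c2 c3 (u 1) (u 2)) : c2 = 0 ∧ c3 = 0 := by
  have key : ∀ x y z s t : K, _ := fun x y z s t => h ![0, s, t] ![x, y, z]
  simp only [Hs_cusp] at key
  simp only [cu] at key
  have a1 := key 0 1 0 1 0
  have a2 := key 1 1 0 1 0
  have b1 := key 0 1 1 1 1
  have b2 := key 1 1 1 1 1
  simp only [Matrix.cons_val_zero, Matrix.cons_val_one, Matrix.cons_val, Matrix.head_cons, Matrix.tail_cons] at a1 a2 b1 b2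
  have hc2 : c2 = 0 := by
    have : 8 * k ^ 3 * c2 = 0 := by linear_combination a1 - a2
    simpa [hk] using this
  refine ⟨hc2, ?_⟩
  have : 24 * k ^ 3 * c3 = 0 := by linear_combination b1 - b2 - 8 * k ^ 3 * hc2
  simpa [hk] using this

/-- A binary quadratic form splits. -/
theorem bin2_split [IsAlgClosed K] (q0 q1 q2 : K) :
    ∃ a b c e : K, ∀ y z : K, q0 * y ^ 2 + q1 * y * z + q2 * z ^ 2 = (a * y + b * z) * (c * y + e * z) := by
  by_cases h : q2 = 0
  · exact ⟨1, 0, q0, q1, fun y z => by rw [h]; ring⟩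
  · obtain ⟨t, ht⟩ := IsAlgClosed.exists_pow_nat_eq (q1 ^ 2 - 4 * q2 * q0) two_pos
    refine ⟨(q1 - t) / (2 * q2), 1, (q1 + t) / 2, q2, fun y z => ?_⟩
    field_simp
    linear_combination y ^ 2 * ht

/-- A binary cubic form splits. -/
theorem bin3_split [IsAlgClosed K] (c0 c1 c2 c3 : K) :
    ∃ a b c e a' b' : K, ∀ y z : K, cu c0 c1 c2 c3 y z = (a * y + b * z) * (c * y + e * z) * (a' * y + b' * z) := by
  by_cases h : c3 = 0
  · obtain ⟨a, b, c, e, hq⟩ := bin2_split c0 c1 c2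
    exact ⟨a, b, c, e, 1, 0, fun y z => by simp only [cu, h]; linear_combination y * hq y z⟩
  · obtain ⟨t, ht⟩ := IsAlgClosed.exists_root (Polynomial.C c3 * Polynomial.X ^ 3 + Polynomial.C c2 * Polynomial.X ^ 2 +
        Polynomial.C c1 * Polynomial.X + Polynomial.C c0) (by
      rw [Polynomial.degree_cubic h]; decide)
    simp [Polynomial.IsRoot] at ht
    obtain ⟨a, b, c, e, hq⟩ := bin2_split (c1 + c2 * t + c3 * t ^ 2) (c2 + c3 * t) c3
    refine ⟨a, b, c, e, -t, 1, fun y z => ?_⟩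
    simp only [cu]
    linear_combination (z - t * y) * hq y z + y ^ 3 * ht

end Groth.Agent.TPt86

end
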